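import Cfsg.Agent.H79.DegGraphSmall.SylowGood
import Cfsg.Agent.H36.Basic
import Cfsg.Agent.H36.Fixed

/-!
# Order and element counts force simplicity

If a group of order `n * p * e` (`e` prime) has exactly `n` Sylow `p`-subgroups and no
non-trivial divisor of `n` is good for `p`, it is simple.
-/

set_option autoImplicit false
set_option linter.style.haveILetI false

namespace Cfsg.Agent.H79.MathieuNse

open Subgroup DegGraphSmall

universe u v

variable {p : ℕ} [hp : Fact p.Prime]

omit hp in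
/-- A good number whose primes lie in a short list is one, after a finite check. -/
theorem good_dvd_eq_one {n B : ℕ} (hn : n < 2 ^ B) (hn0 : n ≠ 0) (l : List ℕ)
    (hl : ∀ q : ℕ, q.Prime → q ∣ n → q ∈ l)
    (hc : ∀ q ∈ l, ∀ i ∈ List.range' 1 B, q ^ i ∣ n → q ^ i % p ≠ 1) {r : ℕ} (hr : r ∣ n)
    (hg : Good p r) : r = 1 := by
  by_contra h1
  have hr0 : r ≠ 0 := fun h => hn0 (zero_dvd_iff.1 (h ▸ hr))
  obtain ⟨q, hq, hqr⟩ := Nat.exists_prime_and_dvd h1
  have hpos := hq.factorization_pos_of_dvd hr0 hqr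
  have hd : q ^ r.factorization q ∣ n := (Nat.ordProj_dvd r q).trans hr
  have hB : r.factorization q < B := by
    refine (Nat.pow_lt_pow_iff_right (show 1 < 2 by norm_num)).1 (lt_of_le_of_lt ?_ hn)
    exact (Nat.pow_le_pow_left hq.two_le _).trans (Nat.le_of_dvd (Nat.pos_of_ne_zero hn0) hd)
  exact hc q (hl q hq (hqr.trans hr)) _ (List.mem_range'_1.2 ⟨hpos, by omega⟩) hd (hg q hq)

/-- A group of order `n * p` does not have `n` Sylow `p`-subgroups. -/
theorem false_of_count {H : Type u} [Group H] [Finite H] {n : ℕ} (hH : Nat.card H = n * p)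
    (hcnt : Nat.card (Sylow p H) = n) (hpn : ¬ p ∣ n) (hgood : ¬ Good p n) : False := by
  obtain ⟨P⟩ := Sylow.nonempty (p := p) (G := H)
  have hP : Nat.card (P : Subgroup H) = p := by
    simpa using H36.card_sylow_eq hH P (a := 1) (m := n) (by ring) hpn
  have hn0 : 0 < n := hcnt ▸ Nat.card_pos
  have hN : Nat.card (normalizer ((P : Subgroup H) : Set H)) = p := by
    have h := H36.card_sylow_mul_normalizer P
    rw [hcnt, hH] at h
    exact Nat.eq_of_mul_eq_mul_left hn0 h
  have heq : (P : Subgroup H) = normalizer ((P : Subgroup H) : Set H) :=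
    eq_of_le_of_card_ge le_normalizer (by rw [hN, hP])
  haveI : IsCyclic (P : Subgroup H) := isCyclic_of_prime_card hP
  haveI : IsMulCommutative (P : Subgroup H) := IsCyclic.isMulCommutative
  have hle : normalizer ((P : Subgroup H) : Set H) ≤ centralizer ((P : Subgroup H) : Set H) :=
    heq ▸ le_centralizer _
  have hc := MonoidHom.ker_transferSylow_isComplement' P hle
  set L := (MonoidHom.transferSylow P hle).ker
  have hL : Nat.card L = n := by
    have h := hc.card_mul_card
    rw [hP, hH] at h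
    exact Nat.eq_of_mul_eq_mul_right hp.out.pos h
  haveI : L.Normal := MonoidHom.normal_ker _
  have hp2 : ¬ p ^ 2 ∣ Nat.card H := by
    rw [hH, pow_two]
    exact fun h => hpn (Nat.dvd_of_mul_dvd_mul_right hp.out.pos h)
  rcases card_sylow_of_normal (hH.symm ▸ dvd_mul_left p n) hp2 L with
    ⟨h, -⟩ | ⟨-, -, r, -, hr, heq'⟩
  · exact hpn (hL ▸ h)
  · have hq : Nat.card (H ⧸ L) = p := by
      have h := card_eq_card_quotient_mul_card_subgroup L
      rw [hH, hL, mul_comm n p] at h
      exact (Nat.eq_of_mul_eq_mul_right hn0 h).symm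
    haveI : IsCyclic (H ⧸ L) := isCyclic_of_prime_card hq
    letI : CommGroup (H ⧸ L) := IsCyclic.commGroup
    obtain ⟨Q⟩ := Sylow.nonempty (p := p) (G := H ⧸ L)
    have h1 : Nat.card (Sylow p (H ⧸ L)) = 1 := by
      haveI : (Q : Subgroup (H ⧸ L)).Normal := inferInstance
      haveI := Sylow.unique_of_normal Q inferInstance
      exact Nat.card_unique
    rw [h1, one_mul, hcnt] at heq'
    exact hgood (heq' ▸ hr)

/-- The simplicity criterion. -/
theorem isSimple_of_count {G : Type u} [Group G] [Finite G] {n e : ℕ} (he : e.Prime)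
    (hG : Nat.card G = n * p * e) (hcnt : Nat.card (Sylow p G) = n) (hpn : ¬ p ∣ n)
    (hpe : ¬ p ∣ e) (hn1 : n ≠ 1) (hgood : ∀ r : ℕ, r ∣ n → Good p r → r = 1) :
    IsSimpleGroup G := by
  have hp2 : ¬ p ^ 2 ∣ Nat.card G := by
    rw [hG, pow_two, show n * p * e = (n * e) * p by ring]
    intro h
    exact ((hp.out.dvd_mul).1 (Nat.dvd_of_mul_dvd_mul_right hp.out.pos h)).elim hpn hpe
  have hng : ¬ Good p n := fun h => hn1 (hgood n dvd_rfl h)
  have hn0 : 0 < n := hcnt ▸ Nat.card_pos
  haveI : Nontrivial G := Finite.one_lt_card_iff_nontrivial.1 (by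
    rw [hG]
    have := hp.out.two_le
    have := he.two_le
    calc 1 < 1 * 2 * 2 := by norm_num
      _ ≤ n * p * e := by gcongr; omega)
  refine ⟨fun K hK => ?_⟩
  by_contra hne
  rw [not_or] at hne
  have hcard := card_eq_card_quotient_mul_card_subgroup K
  have hK1 : Nat.card K ≠ 1 := fun h => hne.1 (K.card_eq_one.1 h)
  rcases card_sylow_of_normal (hG ▸ (dvd_mul_left p n).mul_right e) hp2 K with
    ⟨hpK, heq⟩ | ⟨hpK, hpQ, r, -, hr, heq⟩
  · obtain ⟨P⟩ := Sylow.nonempty (p := p) (G := K)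
    have hd : n * p ∣ Nat.card K := by
      rw [← hcnt, heq]
      exact Nat.Coprime.mul_dvd_of_dvd_of_dvd (Nat.Coprime.symm
        (hp.out.coprime_iff_not_dvd.2 (heq ▸ hcnt.symm ▸ hpn)))
        (P.card_dvd_index.trans (index_dvd_card _)) hpK
    obtain ⟨a, ha⟩ := hd
    have hae : a ∣ e := by
      have hd2 : n * p * a ∣ n * p * e := by rw [← hG, ← ha]; exact card_subgroup_dvd_card K
      exact Nat.dvd_of_mul_dvd_mul_left (Nat.mul_pos hn0 hp.out.pos) hd2
    rcases (Nat.dvd_prime he).1 hae with rfl | rfl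
    · exact false_of_count (by rw [ha, mul_one]) (heq.symm.trans hcnt) hpn hng
    · exact hne.2 (eq_top_of_card_eq K (by rw [ha, hG]))
  · have hr1 : r = 1 := hgood r (hcnt ▸ heq ▸ dvd_mul_left r _) hr
    rw [hr1, mul_one] at heq
    obtain ⟨P⟩ := Sylow.nonempty (p := p) (G := G ⧸ K)
    have hd : n * p ∣ Nat.card (G ⧸ K) := by
      rw [← hcnt, heq]
      exact Nat.Coprime.mul_dvd_of_dvd_of_dvd (Nat.Coprime.symm
        (hp.out.coprime_iff_not_dvd.2 (heq ▸ hcnt.symm ▸ hpn)))
        (P.card_dvd_index.trans (index_dvd_card _)) hpQ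
    obtain ⟨a, ha⟩ := hd
    have hae : a * Nat.card K = e := by
      rw [ha, hG, mul_assoc (n * p)] at hcard
      exact (Nat.eq_of_mul_eq_mul_left (Nat.mul_pos hn0 hp.out.pos) hcard).symm
    rcases (Nat.dvd_prime he).1 ⟨Nat.card K, hae.symm⟩ with rfl | rfl
    · exact false_of_count (by rw [ha, mul_one]) (heq.symm.trans hcnt) hpn hng
    · exact hK1 ((mul_eq_left₀ he.ne_zero).1 hae)

section Nse

variable {M : Type v} [Group M] [Finite M]

/-- With a self-centralizing Sylow subgroup of order `p`, the other element counts are multiples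
of `p`. -/
theorem dvd_card_orderOf (hP : ∀ P : Sylow p M, Nat.card (P : Subgroup M) = p)
    (hC : ∀ P : Sylow p M, centralizer ((P : Subgroup M) : Set M) = P) {k : ℕ} (h1 : k ≠ 1)
    (hkp : k ≠ p) : p ∣ Nat.card {g : M // orderOf g = k} := by
  obtain ⟨P⟩ := Sylow.nonempty (p := p) (G := M)
  letI : MulAction (P : Subgroup M) {g : M // orderOf g = k} :=
    { smul := fun x g => ⟨(x : M) * g * (x : M)⁻¹, by
        rw [show (x : M) * g * (x : M)⁻¹ = MulAut.conj (x : M) g from rfl, MulEquiv.orderOf_eq]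
        exact g.2⟩
      one_smul := fun g => Subtype.ext (show (1 : M) * g * (1 : M)⁻¹ = g by group)
      mul_smul := fun a b g => Subtype.ext
        (show (a : M) * b * g * ((a : M) * b)⁻¹ = a * (b * g * (b : M)⁻¹) * (a : M)⁻¹ by group) }
  have h := P.2.card_modEq_card_fixedPoints {g : M // orderOf g = k}
  have h0 : Nat.card (MulAction.fixedPoints (P : Subgroup M) {g : M // orderOf g = k}) = 0 := by
    rw [Nat.card_eq_zero]
    refine Or.inl ⟨fun x => ?_⟩
    obtain ⟨⟨g, hg⟩, hfix⟩ := x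
    have hgC : g ∈ centralizer ((P : Subgroup M) : Set M) := mem_centralizer_iff.2 fun a ha => by
      have := congrArg Subtype.val (hfix ⟨a, ha⟩)
      change a * g * a⁻¹ = g at this
      exact mul_inv_eq_iff_eq_mul.1 this
    rw [hC P] at hgC
    have hd : orderOf g ∣ p := hP P ▸ Subgroup.orderOf_dvd_natCard _ hgC
    rw [hg] at hd
    rcases (Nat.dvd_prime hp.out).1 hd with e | e
    · exact h1 e
    · exact hkp e
  rw [h0] at h
  exact Nat.modEq_zero_iff_dvd.1 h

/-- Order and the set of element counts determine simplicity. -/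
theorem isSimple_of_nse {G : Type u} [Group G] [Finite G] {n e : ℕ} (hp3 : 2 < p) (he : e.Prime)
    (hpn : ¬ p ∣ n) (hpe : ¬ p ∣ e) (hn1 : n ≠ 1)
    (hgood : ∀ r : ℕ, r ∣ n → Good p r → r = 1)
    (hM : Nat.card M = n * p * e)
    (hC : ∀ P : Sylow p M, centralizer ((P : Subgroup M) : Set M) = P)
    (hMn : Nat.card (Sylow p M) = n) (hcard : Nat.card G = Nat.card M)
    (hnse : {c : ℕ | 0 < c ∧ ∃ k : ℕ, c = Nat.card {g : G // orderOf g = k}} =
      {c : ℕ | 0 < c ∧ ∃ k : ℕ, c = Nat.card {g : M // orderOf g = k}}) :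
    IsSimpleGroup G := by
  have hMP : ∀ P : Sylow p M, Nat.card (P : Subgroup M) = p := fun P => by
    simpa using H36.card_sylow_eq hM P (a := 1) (m := n * e) (by ring)
      (fun h => (hp.out.dvd_mul.1 h).elim hpn hpe)
  have hG : Nat.card G = n * p * e := hcard.trans hM
  obtain ⟨P⟩ := Sylow.nonempty (p := p) (G := G)
  obtain ⟨Q⟩ := Sylow.nonempty (p := p) (G := M)
  have hGP : Nat.card (P : Subgroup G) = p := by
    simpa using H36.card_sylow_eq hG P (a := 1) (m := n * e) (by ring)
      (fun h => (hp.out.dvd_mul.1 h).elim hpn hpe)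
  set d := Nat.card (Sylow p G) with hd
  have hpos : 0 < p - 1 := by omega
  have hmem : d * (p - 1) ∈ {c : ℕ | 0 < c ∧ ∃ k : ℕ, c = Nat.card {g : G // orderOf g = k}} :=
    ⟨Nat.mul_pos Nat.card_pos hpos, p, (H36.card_orderOf_eq P hGP).symm⟩
  rw [hnse] at hmem
  obtain ⟨-, k, hk⟩ := hmem
  have hmod : d % p = 1 := by
    have h := card_sylow_modEq_one p G
    rwa [Nat.ModEq, Nat.mod_eq_of_lt hp.out.one_lt] at h
  have hres : d * (p - 1) % p = p - 1 := by
    rw [Nat.mul_mod, hmod, one_mul, Nat.mod_mod, Nat.mod_eq_of_lt (by omega)]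
  have hdn : d = n := by
    by_cases h1 : k = 1
    · exfalso
      haveI : Unique {g : M // orderOf g = k} :=
        { default := ⟨1, by rw [h1]; exact orderOf_one⟩
          uniq := fun g => Subtype.ext (orderOf_eq_one_iff.1 (g.2.trans h1)) }
      rw [hk, Nat.card_unique, Nat.mod_eq_of_lt hp.out.one_lt] at hres
      omega
    by_cases hkp : k = p
    · rw [hkp, H36.card_orderOf_eq Q (hMP Q), hMn] at hk
      exact Nat.eq_of_mul_eq_mul_right hpos hk
    · exfalso
      have := dvd_card_orderOf hMP hC h1 hkp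
      rw [hk, Nat.mod_eq_zero_of_dvd this] at hres
      omega
  exact isSimple_of_count he hG (hd ▸ hdn) hpn hpe hn1 hgood

end Nse

end Cfsg.Agent.H79.MathieuNse
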