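import Cfsg.Agent.H79.MathieuNse.Basic
import Cfsg.Agent.Golay.Mathieu
import Cfsg.Agent.Golay.Transport

/-!
# Element counts of `M₂₂`, `M₂₃`, `M₂₄` determine simplicity
-/

set_option autoImplicit false
set_option linter.style.haveILetI false

namespace Cfsg.Agent.H79.MathieuNse

open Cfsg Subgroup DegGraphSmall

universe u

/-- The centralizer of a Sylow subgroup of prime order inside a permutation group embeds in the
centralizer of a generator. -/
theorem card_centralizer_dvd {α : Type*} [Fintype α] [DecidableEq α]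
    (K : Subgroup (Equiv.Perm α)) (P : Subgroup K) (x : K) (hx : x ∈ P) :
    Nat.card (centralizer (P : Set K)) ∣ Nat.card (centralizer {(x : Equiv.Perm α)}) := by
  have h : (centralizer (P : Set K)).map K.subtype ≤ centralizer {(x : Equiv.Perm α)} := by
    rintro _ ⟨g, hg, rfl⟩
    refine mem_centralizer_iff.2 fun z hz => ?_
    rw [Set.mem_singleton_iff.1 hz]
    exact congrArg Subtype.val (mem_centralizer_iff.1 hg x hx)
  exact (card_map_of_injective (K := centralizer (P : Set K)) K.subtype_injective).symm ▸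
    card_dvd_of_le h

/-- An element of `M₂₄` of order eleven fixes fewer than five points. -/
theorem support_eleven {σ : Equiv.Perm GolayPt} (hσ : σ ∈ M24) (h : orderOf σ = 11) :
    20 ≤ σ.support.card := by
  by_contra hlt
  have hs : 5 ≤ σ.supportᶜ.card := by
    rw [Finset.card_compl, show Fintype.card GolayPt = 24 from rfl]; omega
  obtain ⟨a, ha, has⟩ := Golay.exists_five_of_card hs
  let a' : Fin 5 ↪ GolayPt := ⟨a, ha⟩
  have horb : MulAction.orbit M24 a' = Set.univ :=
    Set.eq_univ_of_forall fun y => Golay.M24_five_transitive.exists_smul_eq a' y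
  have hst : (⟨σ, hσ⟩ : M24) ∈ MulAction.stabilizer M24 a' := by
    refine MulAction.mem_stabilizer_iff.2 (Function.Embedding.ext fun i => ?_)
    exact Equiv.Perm.notMem_support.1 (Finset.mem_compl.1 (has i))
  have hidx : (MulAction.stabilizer M24 a').index = Nat.card (Fin 5 ↪ GolayPt) := by
    rw [MulAction.index_stabilizer, ← Set.ncard_univ]
    exact congrArg Set.ncard horb
  rw [Nat.card_eq_fintype_card, Fintype.card_embedding_eq, Fintype.card_fin,
    show Fintype.card GolayPt = 24 from rfl, show Nat.descFactorial 24 5 = 5100480 by decide]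
    at hidx
  have hmul := (MulAction.stabilizer M24 a').card_mul_index
  rw [hidx, Golay.card_M24] at hmul
  have hd := Subgroup.orderOf_dvd_natCard _ hst
  rw [← Subgroup.orderOf_coe, show ((⟨σ, hσ⟩ : M24) : Equiv.Perm GolayPt) = σ from rfl, h] at hd
  have h48 : Nat.card (MulAction.stabilizer M24 a') = 48 := by omega
  rw [h48] at hd
  omega

/-- The centralizer in the symmetric group of an element of `M₂₄` of order eleven. -/
theorem card_centralizer_eleven {σ : Equiv.Perm GolayPt} (hσ : σ ∈ M24) (h : orderOf σ = 11) :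
    Nat.card (centralizer {σ}) = 484 := by
  obtain ⟨k, hk⟩ := Equiv.Perm.cycleType_prime_order (σ := σ) (by rw [h]; norm_num)
  have hsum : σ.cycleType.sum = (k + 1) * 11 := by
    rw [hk, h, Multiset.sum_replicate, smul_eq_mul]
  have h20 := support_eleven hσ h
  rw [← Equiv.Perm.sum_cycleType, hsum] at h20
  have hle := Equiv.Perm.sum_cycleType_le σ
  rw [hsum, show Fintype.card GolayPt = 24 from rfl] at hle
  obtain rfl : k = 1 := by omega
  rw [Equiv.Perm.nat_card_centralizer, hk, h, show Fintype.card GolayPt = 24 from rfl]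
  decide

/-- The centralizer in the symmetric group of an element of order twenty-three. -/
theorem card_centralizer_twentyThree {σ : Equiv.Perm GolayPt} (h : orderOf σ = 23) :
    Nat.card (centralizer {σ}) = 23 := by
  obtain ⟨k, hk⟩ := Equiv.Perm.cycleType_prime_order (σ := σ) (by rw [h]; norm_num)
  have hsum : σ.cycleType.sum = (k + 1) * 23 := by
    rw [hk, h, Multiset.sum_replicate, smul_eq_mul]
  have hle := Equiv.Perm.sum_cycleType_le σ
  rw [hsum, show Fintype.card GolayPt = 24 from rfl] at hle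
  obtain rfl : k = 0 := by omega
  rw [Equiv.Perm.nat_card_centralizer, hk, h, show Fintype.card GolayPt = 24 from rfl]
  decide

section Data

variable {p : ℕ} [hp : Fact p.Prime]

/-- Sylow numbers and centralizers from the bound on the centralizer of a generator. -/
theorem sylow_data (K : Subgroup (Equiv.Perm GolayPt)) [IsSimpleGroup K] {n e b : ℕ}
    (hpn : ¬ p ∣ n) (hpe : ¬ p ∣ e) (hne : n ≠ 1) (hK : Nat.card K = n * p * e)
    (hb : ∀ x : K, orderOf (x : Equiv.Perm GolayPt) = p →
      Nat.card (centralizer {(x : Equiv.Perm GolayPt)}) = b * p)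
    (hchk : ∀ f ∈ List.range p, f ∣ p - 1 → f ≠ 1 → ∀ c ∈ List.range (b + 1), c ∣ b →
      c * f ∣ n * e → (n * e / (c * f)) % p = 1 → c = 1 ∧ f = e) (P : Sylow p K) :
    centralizer ((P : Subgroup K) : Set K) = P ∧ Nat.card (Sylow p K) = n := by
  have hP : Nat.card (P : Subgroup K) = p := by
    simpa using H36.card_sylow_eq hK P (a := 1) (m := n * e) (by ring)
      (fun h => (hp.out.dvd_mul.1 h).elim hpn hpe)
  have hpK : p ∣ Nat.card K := hK ▸ (dvd_mul_left p n).mul_right e
  have hpow : ∀ k, Nat.card K ≠ p ^ k := fun k hk => hne (by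
    have hd : n ∣ p ^ k := by rw [← hk, hK, mul_assoc]; exact dvd_mul_right n _
    obtain ⟨i, -, hi⟩ := (Nat.dvd_prime_pow hp.out).1 hd
    rcases i.eq_zero_or_pos with rfl | hi0
    · simpa using hi
    · exact (hpn (by rw [hi]; exact dvd_pow_self p hi0.ne')).elim)
  have hG : ¬ IsMulCommutative K := fun hc => by
    have hone := H36.normalizer_sylow_ne_top P hpK hpow
    refine hone (eq_top_iff.2 fun g _ => centralizer_le_normalizer _
      (mem_centralizer_iff.2 fun a _ => ?_))
    exact hc.is_comm.comm a g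
  haveI : Nontrivial (P : Subgroup K) :=
    Finite.one_lt_card_iff_nontrivial.1 (by rw [hP]; exact hp.out.one_lt)
  obtain ⟨x, hx1⟩ := exists_ne (1 : (P : Subgroup K))
  have hx : orderOf ((x : K) : Equiv.Perm GolayPt) = p := by
    have hd : orderOf x ∣ p := (orderOf_dvd_natCard x).trans hP.dvd
    rcases (Nat.dvd_prime hp.out).1 hd with h | h
    · exact absurd (orderOf_eq_one_iff.1 h) hx1
    · rw [Subgroup.orderOf_coe, Subgroup.orderOf_coe, h]
  have hcb := card_centralizer_dvd K (P : Subgroup K) (x : K) x.2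
  rw [hb _ hx] at hcb
  obtain ⟨c, hc⟩ := H36.dvd_card_centralizer_of_prime hp.out _ hP
  rw [hc, mul_comm b p] at hcb
  have hcd : c ∣ b := Nat.dvd_of_mul_dvd_mul_left hp.out.pos hcb
  set f := (centralizer ((P : Subgroup K) : Set K)).relIndex
    (normalizer ((P : Subgroup K) : Set K)) with hf
  have hfd : f ∣ p - 1 := H36.relIndex_centralizer_dvd_of_prime hp.out _ hP
  have hf1 : 1 < f := H36.one_lt_relIndex_centralizer hG P hpK
  have hmul := H36.card_sylow_mul_normalizer P
  rw [H36.card_normalizer_eq_mul, hc, hK, ← hf] at hmul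
  set d := Nat.card (Sylow p K) with hd
  have hdc : d * (c * f) = n * e := Nat.eq_of_mul_eq_mul_left hp.out.pos (by linarith)
  have hmod : d % p = 1 := by
    have h := card_sylow_modEq_one p K
    rwa [Nat.ModEq, Nat.mod_eq_of_lt hp.out.one_lt] at h
  have hb0 : b ≠ 0 := fun h0 => by
    have := hb _ hx
    rw [h0, zero_mul] at this
    exact Nat.card_pos.ne' this
  have hfp : f < p := lt_of_le_of_lt
    (Nat.le_of_dvd (Nat.sub_pos_of_lt hp.out.one_lt) hfd) (Nat.sub_lt hp.out.pos one_pos)
  obtain ⟨rfl, hfe⟩ := hchk f (List.mem_range.2 hfp) hfd hf1.ne' c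
    (List.mem_range.2 (Nat.lt_succ_of_le (Nat.le_of_dvd (Nat.pos_of_ne_zero hb0) hcd))) hcd
    ⟨d, by linarith⟩ (by
      rw [← hdc, Nat.mul_div_cancel _ (Nat.pos_of_ne_zero fun h0 => by
        rw [h0, mul_zero] at hdc
        have := Nat.card_pos (α := K)
        rw [hK, mul_right_comm, ← hdc] at this
        simp at this)]
      exact hmod)
  refine ⟨?_, ?_⟩
  · haveI : IsCyclic (P : Subgroup K) := isCyclic_of_prime_card hP
    haveI : IsMulCommutative (P : Subgroup K) := IsCyclic.isMulCommutative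
    exact (eq_of_le_of_card_ge (le_centralizer _) (by rw [hc, hP, mul_one])).symm
  · rw [one_mul, hfe] at hdc
    exact Nat.eq_of_mul_eq_mul_right (Nat.pos_of_ne_zero fun h0 => hpe (by rw [h0]; exact dvd_zero p)) hdc

end Data

variable {G : Type u} [Group G] [Finite G]

/-- Order and element counts of `M₂₂` force a simple group of that order. -/
theorem isM22_of_nse (hcard : Nat.card G = Nat.card ↥Cfsg.Spor.M22)
    (hnse : {c : ℕ | 0 < c ∧ ∃ n : ℕ, c = Nat.card {g : G // orderOf g = n}} =
      {c : ℕ | 0 < c ∧ ∃ n : ℕ, c = Nat.card {g : ↥Cfsg.Spor.M22 // orderOf g = n}}) :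
    Cfsg.IsM22 G := by
  haveI : Fact (Nat.Prime 11) := ⟨by norm_num⟩
  haveI := Golay.isSimpleGroup_spor_M22
  have hK : Nat.card ↥Cfsg.Spor.M22 = 8064 * 11 * 5 := Golay.card_spor_M22
  have hd := sylow_data (p := 11) Cfsg.Spor.M22 (n := 8064) (e := 5) (b := 44) (by norm_num)
    (by norm_num) (by norm_num) hK (fun x hx => by
      rw [card_centralizer_eleven (x.2.1.1) hx]) (by decide +kernel)
  obtain ⟨Q⟩ := Sylow.nonempty (p := 11) (G := ↥Cfsg.Spor.M22)
  refine ⟨isSimple_of_nse (p := 11) (n := 8064) (e := 5) (by norm_num) (by norm_num) (by norm_num)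
    (by norm_num) (by norm_num) (fun r hr hg => good_dvd_eq_one (B := 13) (by norm_num)
      (by norm_num) [2, 3, 7] (fun q hq hd => ?_) (by decide +kernel) hr hg) hK
    (fun P => (hd P).1) (hd Q).2 hcard hnse, hcard.trans Golay.card_spor_M22⟩
  have h8 : q ∣ 2 ^ 7 * (3 ^ 2 * 7) := hd
  rcases hq.dvd_mul.1 h8 with h | h
  · simp [(Nat.prime_dvd_prime_iff_eq hq Nat.prime_two).1 (hq.dvd_of_dvd_pow h)]
  · rcases hq.dvd_mul.1 h with h | h
    · simp [(Nat.prime_dvd_prime_iff_eq hq Nat.prime_three).1 (hq.dvd_of_dvd_pow h)]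
    · simp [(Nat.prime_dvd_prime_iff_eq hq (by norm_num)).1 h]

/-- The prime divisors used for the two larger groups. -/
theorem mem_primes {q a b : ℕ} (hq : q.Prime) (h : q ∣ 2 ^ a * (3 ^ b * (5 * 7))) :
    q ∈ [2, 3, 5, 7] := by
  rcases hq.dvd_mul.1 h with h | h
  · simp [(Nat.prime_dvd_prime_iff_eq hq Nat.prime_two).1 (hq.dvd_of_dvd_pow h)]
  · rcases hq.dvd_mul.1 h with h | h
    · simp [(Nat.prime_dvd_prime_iff_eq hq Nat.prime_three).1 (hq.dvd_of_dvd_pow h)]
    · rcases hq.dvd_mul.1 h with h | h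
      · simp [(Nat.prime_dvd_prime_iff_eq hq (by norm_num)).1 h]
      · simp [(Nat.prime_dvd_prime_iff_eq hq (by norm_num)).1 h]

/-- Order and element counts of `M₂₃` force a simple group of that order. -/
theorem isM23_of_nse (hcard : Nat.card G = Nat.card ↥Cfsg.Spor.M23)
    (hnse : {c : ℕ | 0 < c ∧ ∃ n : ℕ, c = Nat.card {g : G // orderOf g = n}} =
      {c : ℕ | 0 < c ∧ ∃ n : ℕ, c = Nat.card {g : ↥Cfsg.Spor.M23 // orderOf g = n}}) :
    Cfsg.IsM23 G := by
  haveI : Fact (Nat.Prime 23) := ⟨by norm_num⟩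
  haveI := Golay.isSimpleGroup_spor_M23
  have hK : Nat.card ↥Cfsg.Spor.M23 = 40320 * 23 * 11 := Golay.card_spor_M23
  have hd := sylow_data (p := 23) Cfsg.Spor.M23 (n := 40320) (e := 11) (b := 1) (by norm_num)
    (by norm_num) (by norm_num) hK (fun x hx => by
      rw [card_centralizer_twentyThree hx]) (by decide +kernel)
  obtain ⟨Q⟩ := Sylow.nonempty (p := 23) (G := ↥Cfsg.Spor.M23)
  exact ⟨isSimple_of_nse (p := 23) (n := 40320) (e := 11) (by norm_num) (by norm_num) (by norm_num)
    (by norm_num) (by norm_num) (fun r hr hg => good_dvd_eq_one (B := 16) (by norm_num)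
      (by norm_num) [2, 3, 5, 7] (fun q hq hd => mem_primes (a := 7) (b := 2) hq hd)
      (by decide +kernel) hr hg) hK (fun P => (hd P).1) (hd Q).2 hcard hnse,
    hcard.trans Golay.card_spor_M23⟩

/-- Order and element counts of `M₂₄` force a simple group of that order. -/
theorem isM24_of_nse (hcard : Nat.card G = Nat.card ↥Cfsg.M24)
    (hnse : {c : ℕ | 0 < c ∧ ∃ n : ℕ, c = Nat.card {g : G // orderOf g = n}} =
      {c : ℕ | 0 < c ∧ ∃ n : ℕ, c = Nat.card {g : ↥Cfsg.M24 // orderOf g = n}}) :
    Cfsg.IsM24 G := by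
  haveI : Fact (Nat.Prime 23) := ⟨by norm_num⟩
  haveI := Golay.isSimpleGroup_M24
  have hK : Nat.card ↥Cfsg.M24 = 967680 * 23 * 11 := Golay.card_M24
  have hd := sylow_data (p := 23) Cfsg.M24 (n := 967680) (e := 11) (b := 1) (by norm_num)
    (by norm_num) (by norm_num) hK (fun x hx => by
      rw [card_centralizer_twentyThree hx]) (by decide +kernel)
  obtain ⟨Q⟩ := Sylow.nonempty (p := 23) (G := ↥Cfsg.M24)
  exact ⟨isSimple_of_nse (p := 23) (n := 967680) (e := 11) (by norm_num) (by norm_num)
    (by norm_num) (by norm_num) (by norm_num) (fun r hr hg => good_dvd_eq_one (B := 20)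
      (by norm_num) (by norm_num) [2, 3, 5, 7] (fun q hq hd => mem_primes (a := 10) (b := 3) hq hd)
      (by decide +kernel) hr hg) hK (fun P => (hd P).1) (hd Q).2 hcard hnse,
    hcard.trans Golay.card_M24⟩

end Cfsg.Agent.H79.MathieuNse
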